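import Mathlib
import Cfsg.Agent.H91.SymEight.Character
import Cfsg.Agent.H62.AutAlternating

/-!
# The degree eight symmetric case of the 3-local recognition theorem

The recognition theorem for the alternating group of degree eight enters as a hypothesis.
-/

set_option autoImplicit false

namespace Cfsg.Agent.H91.SymEight

open Equiv Cfsg.Agent.H34.SymEight

universe u

/-- The recognition statement for the alternating group of degree eight. -/
abbrev AltEightRecognition : Prop :=
  ∀ {G : Type u} [Group G] [Finite G]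
    (P : Sylow 3 G) (D : Subgroup G), D = P → ∀ (y z : G), Subgroup.closure {y, z} = D →
    IsMulCommutative D → Nat.card D = 9 → (∀ a ∈ D, a ^ 3 = 1) →
    Subgroup.centralizer (D : Set G) = D →
    ∀ (_eN : Subgroup.normalizer (D : Set G) ⧸ D.subgroupOf (Subgroup.normalizer (D : Set G)) ≃* DihedralGroup 4),
    (D.subgroupOf (Subgroup.centralizer ({y} : Set G))).Normal →
    Nat.card (Subgroup.centralizer ({y} : Set G)) = 18 →
    ∀ (Ny : Subgroup G), Ny = Subgroup.normalizer (Subgroup.zpowers y : Set G) →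
    D ≤ Ny → ∀ [_hn : (D.subgroupOf Ny).Normal],
    Nat.card (Ny ⧸ D.subgroupOf Ny) = 4 → (∀ g : Ny ⧸ D.subgroupOf Ny, g ^ 2 = 1) →
    ∀ (_eC : Subgroup.centralizer ({z} : Set G) ≃* Multiplicative (ZMod 3) × alternatingGroup (Fin 5))
    (_eL : Subgroup.normalizer (Subgroup.zpowers z : Set G) ≃*
      (((Equiv.Perm.sign).comp (MonoidHom.fst (Equiv.Perm (Fin 3)) (Equiv.Perm (Fin 5)))) *
        ((Equiv.Perm.sign).comp (MonoidHom.snd (Equiv.Perm (Fin 3)) (Equiv.Perm (Fin 5))))).ker),
    Nonempty (G ≃* alternatingGroup (Fin 8))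

variable {G : Type u} [Group G]

theorem normalizer_of_forall [Finite G] {H : Subgroup G} {x : G}
    (h : ∀ n ∈ H, x * n * x⁻¹ ∈ H) : x ∈ Subgroup.normalizer (H : Set G) := by
  rw [Subgroup.mem_normalizer_iff]
  have hm : H.map (MulAut.conj x).toMonoidHom = H :=
    Subgroup.eq_of_le_of_card_ge (Subgroup.map_le_iff_le_comap.2 fun n hn => h n hn)
      (Subgroup.card_map_of_injective (MulAut.conj x).injective).ge
  intro n
  refine ⟨h n, fun hn => ?_⟩
  rw [← hm] at hn
  obtain ⟨m, hm', he⟩ := hn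
  rwa [← (MulAut.conj x).injective (he : MulAut.conj x m = MulAut.conj x n)]

theorem zpowers_normalizer [Finite G] {a x : G} (h : x * a * x⁻¹ ∈ Subgroup.zpowers a) :
    x ∈ Subgroup.normalizer (Subgroup.zpowers a : Set G) := by
  refine normalizer_of_forall ?_
  rintro _ ⟨i, rfl⟩
  show x * a ^ i * x⁻¹ ∈ _
  rw [← conj_zpow]
  exact zpow_mem h i

theorem subgroupOf_normalizer_mem {K H : Subgroup G} (hHK : H ≤ K) {x : K} :
    x ∈ Subgroup.normalizer ((H.subgroupOf K : Subgroup K) : Set K) ↔
      (x : G) ∈ Subgroup.normalizer (H : Set G) := by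
  rw [Subgroup.mem_normalizer_iff, Subgroup.mem_normalizer_iff]
  constructor
  · intro h n
    constructor
    · intro hn
      exact (h ⟨n, hHK hn⟩).1 hn
    · intro hn
      have hnK : n ∈ K := by
        have := K.mul_mem (K.mul_mem (K.inv_mem x.2) (hHK hn)) x.2
        simpa [mul_assoc] using this
      exact (h ⟨n, hnK⟩).2 hn
  · exact fun h n => h (n : G)

theorem card_subgroupOf_ker [Finite G] (T : G →* ℤˣ) (H : Subgroup G) {c : G} (hc : c ∈ H)
    (hTc : T c = -1) : 2 * Nat.card (H.subgroupOf T.ker) = Nat.card H := by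
  have e : Nat.card (H.subgroupOf T.ker) = Nat.card (T.ker.subgroupOf H) := Nat.card_congr
    { toFun := fun x => ⟨⟨x.1.1, x.2⟩, x.1.2⟩
      invFun := fun x => ⟨⟨x.1.1, x.2⟩, x.1.2⟩
      left_inv := fun x => rfl
      right_inv := fun x => rfl }
  have hk : T.ker.subgroupOf H = (T.comp H.subtype).ker := rfl
  have hr : (T.comp H.subtype).range = ⊤ := by
    rw [eq_top_iff]
    intro u _
    rcases Int.units_eq_one_or u with rfl | rfl
    · exact one_mem _
    · exact ⟨⟨c, hc⟩, hTc⟩
  have hi : (T.ker.subgroupOf H).index = 2 := by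
    rw [hk, Subgroup.index_ker, hr, Subgroup.card_top, Nat.card_eq_fintype_card, Fintype.card_units_int]
  rw [e, ← hi, mul_comm, Subgroup.card_mul_index]

theorem eq_one_of_comm : ∀ σ : Perm (Fin 5), (σ * t5 = t5 * σ ∧
    σ * (swap 2 3 * swap 3 4) = swap 2 3 * swap 3 4 * σ) → σ = 1 := by decide +kernel

theorem eq_one_of_comm_three : ∀ a : Perm (Fin 3), (a ^ 3 = 1 ∧ a * w3 = w3 * a) → a = 1 := by
  decide +kernel

theorem conj_u3 : ∀ a : Perm (Fin 3), a * u3 * a⁻¹ = u3 ∨ a * u3 * a⁻¹ = u3⁻¹ := by decide +kernel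

/-- **Case one**: the involution centraliser is `2 × Sym 6`, so the group is `Sym 8`. -/
theorem _root_.Cfsg.Agent.H34.SymEight.Data.sym_eight_of_case_one [Finite G] (h3329 : AltEightRecognition.{u}) (d : Data G)
    (π : Subgroup.centralizer ({d.c} : Set G) →* Perm (Fin 6)) (hπ : Function.Surjective π)
    (hker : ∀ x, π x = 1 ↔ (x : G) = 1 ∨ (x : G) = d.c) :
    Nonempty (G ≃* Perm (Fin 8)) := by
  classical
  haveI : Fact (Nat.Prime 3) := ⟨Nat.prime_three⟩
  obtain ⟨sp⟩ := exists_split d π hπ hker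
  obtain ⟨T, hTc, hTL, hTI⟩ := sp.exists_character
  set K := T.ker with hK
  have hTz : T d.z = 1 := (hTL u3).trans (by decide)
  have hTz' : T d.z' = 1 := (hTI t5).trans (by decide)
  have hzK : d.z ∈ K := hTz
  have hyK : y d ∈ K := by rw [hK, MonoidHom.mem_ker, y, map_mul, hTz, hTz', one_mul]
  have hDK : d.D ≤ K := by
    rw [Data.D, Subgroup.closure_le]
    rintro x (rfl | rfl)
    · exact hTz
    · exact hTz'
  set DK := d.D.subgroupOf K with hDKdef
  have hcardDK : Nat.card DK = 9 := by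
    rw [hDKdef, Nat.card_congr (Subgroup.subgroupOfEquivOfLe hDK).toEquiv, card_D]
  have hDp : IsPGroup 3 DK := IsPGroup.of_card (n := 2) (by rw [hcardDK]; norm_num)
  have hidx : ¬ 3 ∣ DK.index := by
    intro h
    have h1 : 27 ∣ Nat.card K := by
      rw [← DK.card_mul_index, hcardDK]
      exact Nat.mul_dvd_mul_left 9 h
    exact d.not_27 (h1.trans (Subgroup.card_subgroup_dvd_card K))
  have hDcomm : IsMulCommutative d.D := Subgroup.isMulCommutative_closure (by
    rintro a (rfl | rfl) b (rfl | rfl)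
    exacts [rfl, z_comm_z' d, (z_comm_z' d).symm, rfl])
  have hDKcomm : IsMulCommutative DK := ⟨⟨fun a b => by
    apply Subtype.ext
    apply Subtype.ext
    exact congrArg (fun v : d.D => (v : G)) (mul_comm' (⟨a.1.1, a.2⟩ : d.D) ⟨b.1.1, b.2⟩)⟩⟩
  have hexp : ∀ a ∈ DK, a ^ 3 = 1 := by
    intro a ha
    apply Subtype.ext
    rw [Subgroup.coe_pow]
    have hmem : (a : G) ∈ d.D := ha
    rw [D_eq_map] at hmem
    obtain ⟨⟨p, q⟩, ⟨⟨i, rfl⟩, ⟨j, rfl⟩⟩, e⟩ := hmem
    rw [← e, ← map_pow]
    show psi d ((u3 ^ i) ^ 3, (t5 ^ j) ^ 3) = 1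
    have h1 : (u3 ^ i) ^ 3 = 1 := by
      rw [← zpow_natCast, ← zpow_mul, mul_comm, zpow_mul, zpow_natCast, u3_pow_three, one_zpow]
    have h2 : (t5 ^ j) ^ 3 = 1 := by
      rw [← zpow_natCast, ← zpow_mul, mul_comm, zpow_mul, zpow_natCast, t5_pow_three, one_zpow]
    rw [h1, h2]
    exact map_one (psi d)
  have hgen : Subgroup.closure {(⟨y d, hyK⟩ : K), ⟨d.z, hzK⟩} = DK := by
    apply Subgroup.map_injective K.subtype_injective
    rw [MonoidHom.map_closure, Set.image_pair, hDKdef, Subgroup.map_subgroupOf_eq_of_le hDK]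
    show Subgroup.closure {y d, d.z} = d.D
    refine le_antisymm ((Subgroup.closure_le _).2 (Set.insert_subset (y_mem_D d)
      (Set.singleton_subset_iff.2 (z_mem_D d)))) ((Subgroup.closure_le _).2 ?_)
    have hy1 : y d ∈ Subgroup.closure {y d, d.z} := Subgroup.subset_closure (Set.mem_insert _ _)
    have hz1 : d.z ∈ Subgroup.closure {y d, d.z} :=
      Subgroup.subset_closure (Set.mem_insert_of_mem _ (Set.mem_singleton _))
    rintro x (rfl | rfl)
    · exact hz1
    · have e : d.z' = d.z⁻¹ * y d := by rw [y, inv_mul_cancel_left]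
      rw [e]; exact mul_mem (inv_mem hz1) hy1
  have hcent : Subgroup.centralizer (DK : Set K) = DK := by
    refine le_antisymm (fun x hx => ?_) (fun x hx => ?_)
    · have hx1 : ∀ v (hv : v ∈ d.D), Commute (x : G) v := fun v hv =>
        (congrArg Subtype.val (Subgroup.mem_centralizer_iff.1 hx ⟨v, hDK hv⟩ hv)).symm
      obtain ⟨i, j, e⟩ := mem_cent_D (hx1 _ (z_mem_D d)) (hx1 _ (z'_mem_D d))
      rcases e with e | e
      · show (x : G) ∈ d.D
        rw [e]; exact mul_mem (pow_mem (z_mem_D d) i) (pow_mem (z'_mem_D d) j)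
      · exfalso
        have h1 : T x = 1 := x.2
        rw [e, map_mul, map_mul, map_pow, map_pow, hTz, hTz', hTc, one_pow, one_pow, one_mul,
          one_mul] at h1
        exact absurd h1 (by decide)
    · rw [Subgroup.mem_centralizer_iff]
      intro v hv
      exact congrArg Subtype.val (mul_comm' (⟨v, hv⟩ : DK) ⟨x, hx⟩)
  have hcN : ∀ (H : Subgroup G), (∀ v ∈ H, Commute d.c v) → d.c ∈ Subgroup.normalizer (H : Set G) :=
    fun H h => normalizer_of_forall fun n hn => by rwa [(h n hn).eq, mul_inv_cancel_right]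
  have hcD : ∀ v ∈ d.D, Commute d.c v := by
    intro v hv
    have hle : d.D ≤ Subgroup.centralizer ({d.c} : Set G) := by
      rw [Data.D, Subgroup.closure_le]
      rintro x (rfl | rfl)
      · exact Subgroup.mem_centralizer_singleton_iff.2 (z_comm_c d).eq
      · exact Subgroup.mem_centralizer_singleton_iff.2 (z'_comm_c d).eq
    exact (Subgroup.mem_centralizer_singleton_iff.1 (hle hv)).symm
  -- the normaliser quotient
  obtain ⟨f, hfs, hfk⟩ : ∃ f : Subgroup.normalizer (d.D : Set G) →* DihedralGroup 4,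
      Function.Surjective f ∧
        f.ker = (Subgroup.centralizer (d.D : Set G)).subgroupOf _ := d.norm_hom
  let NK := Subgroup.normalizer (DK : Set K)
  let fK : NK →* DihedralGroup 4 := f.comp
    { toFun := fun x => ⟨((x : K) : G), (subgroupOf_normalizer_mem hDK).1 x.2⟩
      map_one' := rfl
      map_mul' := fun _ _ => rfl }
  have hfKs : Function.Surjective fK := by
    intro v
    obtain ⟨⟨n, hn⟩, rfl⟩ := hfs v
    have hcn : (⟨d.c, hcN _ hcD⟩ : Subgroup.normalizer (d.D : Set G)) ∈ f.ker := by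
      rw [hfk, Subgroup.mem_subgroupOf, Subgroup.mem_centralizer_iff]
      exact fun x hx => (hcD x hx).symm.eq
    rcases Int.units_eq_one_or (T n) with h | h
    · exact ⟨⟨⟨n, h⟩, (subgroupOf_normalizer_mem hDK).2 hn⟩, rfl⟩
    · have hnc : n * d.c ∈ K := by rw [hK, MonoidHom.mem_ker, map_mul, h, hTc]; norm_num
      refine ⟨⟨⟨n * d.c, hnc⟩, (subgroupOf_normalizer_mem hDK).2 (mul_mem hn (hcN _ hcD))⟩, ?_⟩
      show f (⟨n, hn⟩ * ⟨d.c, hcN _ hcD⟩) = _
      rw [map_mul, hcn, mul_one]
  have hfKk : DK.subgroupOf NK = fK.ker := by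
    ext x
    rw [Subgroup.mem_subgroupOf, MonoidHom.mem_ker]
    show (x : K) ∈ DK ↔ f _ = 1
    rw [← MonoidHom.mem_ker, hfk, Subgroup.mem_subgroupOf]
    show ((x : K) : G) ∈ d.D ↔ ((x : K) : G) ∈ Subgroup.centralizer (d.D : Set G)
    constructor
    · intro hx
      rw [Subgroup.mem_centralizer_iff]
      exact fun v hv => congrArg Subtype.val (mul_comm' (⟨v, hv⟩ : d.D) ⟨_, hx⟩)
    · intro hx
      have h1 : (x : K) ∈ Subgroup.centralizer (DK : Set K) := by
        rw [Subgroup.mem_centralizer_iff]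
        exact fun v hv => Subtype.ext (Subgroup.mem_centralizer_iff.1 hx (v : G) hv)
      exact (SetLike.ext_iff.1 hcent _).1 h1
  let eN : NK ⧸ DK.subgroupOf NK ≃* DihedralGroup 4 :=
    (QuotientGroup.quotientMulEquivOfEq hfKk).trans (QuotientGroup.quotientKerEquivOfSurjective fK hfKs)
  -- centraliser and normaliser of `y`
  set yK : K := ⟨y d, hyK⟩
  have hyc : Commute d.c (y d) := hcD _ (y_mem_D d)
  have hCy : Subgroup.centralizer ({yK} : Set K) =
      (Subgroup.centralizer ({y d} : Set G)).subgroupOf K := by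
    ext x
    rw [Subgroup.mem_subgroupOf, Subgroup.mem_centralizer_singleton_iff,
      Subgroup.mem_centralizer_singleton_iff, Subtype.ext_iff]
    rfl
  have hcy18 : Nat.card (Subgroup.centralizer ({yK} : Set K)) = 18 := by
    have h := card_subgroupOf_ker T _ (Subgroup.mem_centralizer_singleton_iff.2 hyc.eq) hTc
    rw [← hCy, show Nat.card (Subgroup.centralizer ({y d} : Set G)) = 36 from d.card_cy] at h
    exact Nat.eq_of_mul_eq_mul_left (show 0 < 2 by norm_num) (h.trans rfl)
  have hyn : (DK.subgroupOf (Subgroup.centralizer ({yK} : Set K))).Normal := by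
    refine ⟨fun n hn x => ?_⟩
    have hx : ((x : K) : G) ∈ Subgroup.normalizer (d.D : Set G) := d.cy_le
      (show ((x : K) : G) ∈ Subgroup.centralizer ({y d} : Set G) from (SetLike.ext_iff.1 hCy _).1 x.2)
    exact (Subgroup.mem_normalizer_iff.1 hx _).1 hn
  set Ny := Subgroup.normalizer (Subgroup.zpowers yK : Set K) with hNy
  have hzy : (Subgroup.zpowers (y d)).subgroupOf K = Subgroup.zpowers yK := by
    apply Subgroup.map_injective K.subtype_injective
    rw [MonoidHom.map_zpowers, Subgroup.map_subgroupOf_eq_of_le (Subgroup.zpowers_le.2 hyK)]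
    rfl
  have hNyeq : Ny = (Subgroup.normalizer (Subgroup.zpowers (y d) : Set G)).subgroupOf K := by
    ext x
    rw [Subgroup.mem_subgroupOf, hNy, ← hzy]
    exact subgroupOf_normalizer_mem (Subgroup.zpowers_le.2 hyK)
  have hNy36 : Nat.card Ny = 36 := by
    have h := card_subgroupOf_ker T _ (hcN (Subgroup.zpowers (y d)) (by
      rintro _ ⟨i, rfl⟩; exact hyc.zpow_right i)) hTc
    rw [← hNyeq, show Nat.card (Subgroup.normalizer (Subgroup.zpowers (y d) : Set G)) = 72 from d.card_ny] at h
    exact Nat.eq_of_mul_eq_mul_left (show 0 < 2 by norm_num) (h.trans rfl)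
  have hDNy : DK ≤ Ny := by
    intro x hx
    rw [hNyeq]
    show (x : G) ∈ Subgroup.normalizer _
    refine zpowers_normalizer ?_
    have : Commute (x : G) (y d) := congrArg Subtype.val (mul_comm' (⟨_, hx⟩ : d.D) ⟨_, y_mem_D d⟩)
    rw [this.eq, mul_inv_cancel_right]
    exact Subgroup.mem_zpowers _
  haveI hNyn : (DK.subgroupOf Ny).Normal := by
    refine ⟨fun n hn x => ?_⟩
    have hx : ((x : K) : G) ∈ Subgroup.normalizer (d.D : Set G) := d.ny_le
      (show ((x : K) : G) ∈ Subgroup.normalizer (Subgroup.zpowers (y d) : Set G) from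
        (SetLike.ext_iff.1 hNyeq _).1 x.2)
    exact (Subgroup.mem_normalizer_iff.1 hx _).1 hn
  have hNy4 : Nat.card (Ny ⧸ DK.subgroupOf Ny) = 4 := by
    have h := (DK.subgroupOf Ny).card_eq_card_quotient_mul_card_subgroup
    rw [Nat.card_congr (Subgroup.subgroupOfEquivOfLe hDNy).toEquiv, hcardDK, hNy36] at h
    omega
  have hNysq : ∀ g : Ny ⧸ DK.subgroupOf Ny, g ^ 2 = 1 := by
    intro g
    induction g using QuotientGroup.induction_on with
    | H g =>
      rw [← QuotientGroup.mk_pow, QuotientGroup.eq_one_iff, pow_two]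
      exact d.ny_sq ((g : K) : G)
        (show ((g : K) : G) ∈ Subgroup.normalizer (Subgroup.zpowers (y d) : Set G) from
          (SetLike.ext_iff.1 hNyeq _).1 g.2)
  -- centraliser and normaliser of `z`
  set zK : K := ⟨d.z, hzK⟩
  have hTpsi : ∀ p : Perm (Fin 3) × Perm (Fin 5), T (psi d p) = Perm.sign p.1 * Perm.sign p.2 :=
    fun p => by rw [psi_apply d p.1 p.2, map_mul, hTL, hTI]
  have hu3sign : ∀ a ∈ Subgroup.zpowers u3, Perm.sign a = 1 := by
    rintro _ ⟨i, rfl⟩
    rw [map_zpow, show Perm.sign u3 = 1 from by decide, one_zpow]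
  let gC : Subgroup.zpowers u3 × alternatingGroup (Fin 5) →* Subgroup.centralizer ({zK} : Set K) :=
    { toFun := fun p => ⟨⟨psi d (p.1.1, p.2.1), by
          rw [MonoidHom.mem_ker, hTpsi, hu3sign _ p.1.2, Perm.mem_alternatingGroup.1 p.2.2, one_mul]⟩,
        Subgroup.mem_centralizer_singleton_iff.2 (Subtype.ext (by
          show psi d _ * d.ιL u3 = d.ιL u3 * psi d _
          obtain ⟨i, hi⟩ := p.1.2
          have hz : d.ιL u3 = psi d (u3, 1) := by rw [psi_apply, map_one, mul_one]
          rw [hz, ← map_mul, ← map_mul, Prod.mk_mul_mk, Prod.mk_mul_mk, mul_one, one_mul, ← hi,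
            (Commute.zpow_self u3 i).eq]))⟩
      map_one' := Subtype.ext (Subtype.ext (map_one (psi d)))
      map_mul' := fun p q => Subtype.ext (Subtype.ext (map_mul (psi d) (p.1.1, p.2.1) (q.1.1, q.2.1))) }
  have hgC : Function.Bijective gC := by
    constructor
    · intro p q h
      have h2 := psi_injective d (congrArg (fun x : Subgroup.centralizer ({zK} : Set K) => ((x : K) : G)) h)
      exact Prod.ext (Subtype.ext (congrArg Prod.fst h2)) (Subtype.ext (congrArg Prod.snd h2))
    · intro x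
      have hx : Commute ((x : K) : G) (d.ιL u3) :=
        congrArg Subtype.val (Subgroup.mem_centralizer_singleton_iff.1 x.2)
      obtain ⟨i, σ, e⟩ := d.mem_cz _ hx
      have hσ : Perm.sign σ = 1 := by
        have h1 : T ((x : K) : G) = 1 := (x : K).2
        rwa [e, map_mul, map_pow, hTI, show T (d.ιL u3) = 1 from hTz, one_pow, one_mul] at h1
      refine ⟨(⟨u3 ^ i, pow_mem (Subgroup.mem_zpowers _) i⟩, ⟨σ, Perm.mem_alternatingGroup.2 hσ⟩), ?_⟩
      apply Subtype.ext; apply Subtype.ext
      show psi d (u3 ^ i, σ) = _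
      rw [psi_apply, map_pow, e]
  let e3 : Subgroup.zpowers u3 ≃* Multiplicative (ZMod 3) := mulEquivOfPrimeCardEq (p := 3)
    (by rw [Nat.card_zpowers, orderOf_eq_prime u3_pow_three u3_ne_one])
    (by simp)
  let eC : Subgroup.centralizer ({zK} : Set K) ≃* Multiplicative (ZMod 3) × alternatingGroup (Fin 5) :=
    (MulEquiv.ofBijective gC hgC).symm.trans (e3.prodCongr (MulEquiv.refl _))
  let sgn : Perm (Fin 3) × Perm (Fin 5) →* ℤˣ :=
    ((Equiv.Perm.sign).comp (MonoidHom.fst (Equiv.Perm (Fin 3)) (Equiv.Perm (Fin 5)))) *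
      ((Equiv.Perm.sign).comp (MonoidHom.snd (Equiv.Perm (Fin 3)) (Equiv.Perm (Fin 5))))
  let pK : sgn.ker → K := fun p => ⟨psi d p.1, by rw [MonoidHom.mem_ker, hTpsi]; exact p.2⟩
  let gL : sgn.ker →* Subgroup.normalizer (Subgroup.zpowers zK : Set K) :=
    { toFun := fun p => ⟨pK p, by
        refine zpowers_normalizer ?_
        have hz : (zK : G) = psi d (u3, 1) := by
          show d.ιL u3 = _
          rw [psi_apply, map_one, mul_one]
        rcases conj_u3 p.1.1 with h | h
        · have e : pK p * zK * (pK p)⁻¹ = zK := by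
            apply Subtype.ext
            show psi d p.1 * (zK : G) * (psi d p.1)⁻¹ = (zK : G)
            rw [hz, ← map_inv, ← map_mul, ← map_mul]
            exact congrArg (psi d) (Prod.ext h (by simp))
          rw [e]; exact Subgroup.mem_zpowers _
        · have e : pK p * zK * (pK p)⁻¹ = zK⁻¹ := by
            apply Subtype.ext
            show psi d p.1 * (zK : G) * (psi d p.1)⁻¹ = (zK : G)⁻¹
            rw [hz, ← map_inv, ← map_inv, ← map_mul, ← map_mul]
            exact congrArg (psi d) (Prod.ext h (by simp))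
          rw [e]; exact inv_mem (Subgroup.mem_zpowers _)⟩
      map_one' := Subtype.ext (Subtype.ext (map_one (psi d)))
      map_mul' := fun p q => Subtype.ext (Subtype.ext (map_mul (psi d) p.1 q.1)) }
  have hgL : Function.Bijective gL := by
    constructor
    · intro p q h
      exact Subtype.ext (psi_injective d
        (congrArg (fun x : Subgroup.normalizer (Subgroup.zpowers zK : Set K) => ((x : K) : G)) h))
    · intro x
      obtain ⟨i, hi⟩ := (Subgroup.mem_normalizer_iff.1 x.2 zK).1 (Subgroup.mem_zpowers _)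
      have hi' : ((x : K) : G) * d.ιL u3 * ((x : K) : G)⁻¹ = d.ιL (u3 ^ i) := by
        rw [map_zpow]
        exact (congrArg Subtype.val hi).symm
      obtain ⟨a, ha⟩ : ∃ a : Perm (Fin 3), a * u3 * a⁻¹ = u3 ^ i := by
        have hmod := zpow_mod_orderOf u3 i
        rw [orderOf_eq_prime u3_pow_three u3_ne_one] at hmod
        have h0 : i % ((3 : ℕ) : ℤ) ≠ 0 := by
          intro h
          rw [h, zpow_zero] at hmod
          rw [← hmod, map_one, conj_eq_one_iff] at hi'
          exact u3_ne_one (iotaL_eq_one d hi')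
        have hlt : i % ((3 : ℕ) : ℤ) = 1 ∨ i % ((3 : ℕ) : ℤ) = 2 := by omega
        rcases hlt with h | h <;> rw [h] at hmod <;> rw [← hmod]
        · exact ⟨1, by decide⟩
        · exact ⟨w3, by decide⟩
      have hcomm : Commute ((d.ιL a)⁻¹ * ((x : K) : G)) (d.ιL u3) := by
        have h2 : ((x : K) : G) * d.ιL u3 = d.ιL a * d.ιL u3 * (d.ιL a)⁻¹ * ((x : K) : G) := by
          rw [← map_inv, ← map_mul, ← map_mul, ha, ← hi', inv_mul_cancel_right]
        show (d.ιL a)⁻¹ * _ * d.ιL u3 = d.ιL u3 * ((d.ιL a)⁻¹ * _)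
        rw [mul_assoc, h2]; group
      obtain ⟨k, σ, e⟩ := d.mem_cz _ hcomm
      have e' : ((x : K) : G) = psi d (a * u3 ^ k, σ) := by
        rw [psi_apply, map_mul, map_pow, mul_assoc, ← e, mul_inv_cancel_left]
      refine ⟨⟨(a * u3 ^ k, σ), ?_⟩, Subtype.ext (Subtype.ext e'.symm)⟩
      rw [MonoidHom.mem_ker]
      show Perm.sign (a * u3 ^ k) * Perm.sign σ = 1
      have h1 : T ((x : K) : G) = 1 := (x : K).2
      rwa [e', hTpsi] at h1
  let eL : Subgroup.normalizer (Subgroup.zpowers zK : Set K) ≃* sgn.ker :=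
    (MulEquiv.ofBijective gL hgL).symm
  obtain ⟨e8⟩ := h3329 (G := K) (hDp.toSylow hidx) DK rfl yK zK hgen hDKcomm hcardDK hexp hcent eN
    hyn hcy18 Ny rfl hDNy hNy4 hNysq eC eL
  -- embedding into the automorphism group
  have hcardG : Nat.card G = Nat.card (Perm (Fin 8)) := by
    have h1 := card_subgroupOf_ker T ⊤ (Subgroup.mem_top d.c) hTc
    rw [Subgroup.card_top, Subgroup.top_subgroupOf, Subgroup.card_top, Nat.card_congr e8.toEquiv] at h1
    rw [← h1, ← (alternatingGroup (Fin 8)).card_mul_index, alternatingGroup.index_eq_two, mul_comm]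
  let Φ : G →* MulAut (alternatingGroup (Fin 8)) :=
    (MulAut.congr e8).toMonoidHom.comp (MulAut.conjNormal : G →* MulAut K)
  have hΦ : Function.Injective Φ := by
    show Function.Injective ((MulAut.congr e8) ∘ (MulAut.conjNormal : G →* MulAut K))
    refine (MulAut.congr e8).injective.comp ?_
    rw [injective_iff_map_eq_one]
    intro g hg
    have hcom : ∀ v ∈ K, Commute g v := fun v hv => by
      have := congrArg Subtype.val (DFunLike.congr_fun hg ⟨v, hv⟩)
      simp only [MulAut.conjNormal_apply, MulAut.one_apply] at this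
      exact mul_inv_eq_iff_eq_mul.1 this
    obtain ⟨i, σ, rfl⟩ := d.mem_cz g (hcom _ hzK)
    have hσ : ∀ b : Perm (Fin 5), Perm.sign b = 1 → σ * b = b * σ := by
      intro b hb
      have h := (hcom (d.ι b) (by rw [hK, MonoidHom.mem_ker, hTI, hb])).eq
      rw [← mul_assoc, ← ((d.comm u3 b).pow_left i).eq, mul_assoc, mul_assoc] at h
      exact iota_inj d (by rw [map_mul, map_mul]; exact mul_left_cancel h)
    have hσ1 : σ = 1 := eq_one_of_comm σ ⟨hσ t5 (by decide), hσ _ (by decide)⟩
    subst hσ1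
    have hm : d.ιL w3 * d.ι (swap 0 1) ∈ K := by
      rw [hK, MonoidHom.mem_ker, map_mul, hTL, hTI]; decide
    have h := (hcom _ hm).eq
    rw [map_one, mul_one, ← map_pow] at h ⊢
    have h2 : psi d (u3 ^ i, 1) * psi d (w3, swap 0 1) = psi d (w3, swap 0 1) * psi d (u3 ^ i, 1) := by
      simp only [psi_apply, map_one, mul_one]
      exact h
    rw [← map_mul, ← map_mul] at h2
    have h3 := congrArg Prod.fst (psi_injective d h2)
    have h4 := eq_one_of_comm_three (u3 ^ i)
      ⟨by rw [← pow_mul, mul_comm, pow_mul, u3_pow_three, one_pow], h3⟩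
    rw [h4, map_one]
  let E : Perm (Fin 8) ≃* MulAut (alternatingGroup (Fin 8)) :=
    MulEquiv.ofBijective MulAut.conjNormal ⟨Cfsg.Agent.H62.conjNormal_injective (by norm_num),
      Cfsg.Agent.H62.conjNormal_surjective (by norm_num) (by norm_num)⟩
  let Ψ : G →* Perm (Fin 8) := E.symm.toMonoidHom.comp Φ
  exact ⟨MulEquiv.ofBijective Ψ ((Nat.bijective_iff_injective_and_card _).2
    ⟨E.symm.injective.comp hΦ, hcardG⟩)⟩

end Cfsg.Agent.H91.SymEight
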